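import Cfsg.Agent.Kazarin.Core
import Cfsg.Agent.Hall.Basic
import Cfsg.Agent.Hall.Fitting
import Cfsg.Agent.Signalizer.Functor
import Cfsg.Prelude.Def_Solvable

/-!
# Kazarin's theorem: an element with prime power class size has solvable normal closure
-/

set_option autoImplicit false

namespace CfsgLib.Kazarin

open scoped Pointwise commutatorElement

universe u

variable {G : Type u} [Group G] [Finite G]

/-- A Sylow subgroup covers the cosets of a subgroup of prime power index. -/
theorem exists_mul {p b : ℕ} [hp : Fact p.Prime] (C : Subgroup G) (hC : C.index = p ^ b) (P : Sylow p G) (g : G) :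
    ∃ s ∈ (P : Subgroup G), ∃ c ∈ C, g = s * c := by



  let f : (P : Subgroup G) ⧸ C.subgroupOf (P : Subgroup G) → G ⧸ C :=
    Quotient.map' (fun s => (s : G)) fun a c hac => by
      rw [QuotientGroup.leftRel_apply] at hac ⊢
      exact hac
  have hinj : Function.Injective f := by
    intro a c
    refine Quotient.inductionOn₂' a c fun a c hac => ?_
    refine Quotient.eq''.2 ?_
    have h2 := Quotient.eq''.1 hac
    rw [QuotientGroup.leftRel_apply] at h2 ⊢
    exact h2
  have hcard : Nat.card (G ⧸ C) ≤ Nat.card ((P : Subgroup G) ⧸ C.subgroupOf (P : Subgroup G)) := by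
    rw [← Subgroup.index_eq_card, ← Subgroup.index_eq_card, ← Subgroup.relIndex, hC]
    refine Nat.le_of_dvd (Nat.pos_of_ne_zero Subgroup.index_ne_zero_of_finite) ?_
    have h1 : C.index ∣ (C ⊓ (P : Subgroup G)).index := Subgroup.index_dvd_of_le inf_le_left
    rw [← Subgroup.relIndex_mul_index (show C ⊓ (P : Subgroup G) ≤ P from inf_le_right),
      Subgroup.inf_relIndex_right, hC] at h1
    exact ((hp.out.coprime_iff_not_dvd.2 P.not_dvd_index).pow_left b).dvd_of_dvd_mul_right h1
  have hb : Function.Bijective f := ⟨hinj, ((Nat.bijective_iff_injective_and_card f).2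
    ⟨hinj, le_antisymm (Nat.card_le_card_of_injective f hinj) hcard⟩).2⟩
  obtain ⟨a, ha⟩ := hb.2 (g : G ⧸ C)
  obtain ⟨s, rfl⟩ := QuotientGroup.mk_surjective a
  exact ⟨s, s.2, _, QuotientGroup.eq.1 ha, (mul_inv_cancel_left _ _).symm⟩

/-- An element of `p`-power class size normalising a Sylow `p`-subgroup centralises every minimal normal
subgroup which is not a `p`-group. -/
theorem commute_of_mem_normalizer {p b : ℕ} [hp : Fact p.Prime] (N : Subgroup G) [N.Normal]
    (hmin : ∀ L : Subgroup G, L.Normal → L ≤ N → L = ⊥ ∨ L = N) (hNp : ¬ IsPGroup p N) (z : G)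
    (hidx : (Subgroup.centralizer ({z} : Set G)).index = p ^ b) (P : Sylow p G)
    (hz : z ∈ Subgroup.normalizer ((P : Subgroup G) : Set G)) : z ∈ Subgroup.centralizer (N : Set G) := by
  have hP : ∀ g : G, g * z * g⁻¹ * z⁻¹ ∈ (P : Subgroup G) := by
    intro g
    obtain ⟨s, hs, c, hc, rfl⟩ := exists_mul _ hidx P g
    have hcz : c * z = z * c := Subgroup.mem_centralizer_singleton_iff.1 hc
    rw [show s * c * z * (s * c)⁻¹ * z⁻¹ = s * (c * z) * c⁻¹ * s⁻¹ * z⁻¹ by group, hcz,
      show s * (z * c) * c⁻¹ * s⁻¹ * z⁻¹ = s * (z * s⁻¹ * z⁻¹) by group]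
    exact mul_mem hs ((Subgroup.mem_normalizer_iff.1 hz s⁻¹).1 (inv_mem hs))
  set W := Subgroup.closure {w : G | ∃ g, w = g * z * g⁻¹ * z⁻¹} with hW
  have hWP : W ≤ (P : Subgroup G) := (Subgroup.closure_le _).2 fun w ⟨g, hg⟩ => hg ▸ hP g
  haveI : W.Normal := by
    refine ⟨fun w hw h => ?_⟩
    induction hw using Subgroup.closure_induction with
    | mem w hw =>
      obtain ⟨g, rfl⟩ := hw
      rw [show h * (g * z * g⁻¹ * z⁻¹) * h⁻¹ = ((h * g) * z * (h * g)⁻¹ * z⁻¹) * (h * z * h⁻¹ * z⁻¹)⁻¹ by group]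
      exact W.mul_mem (Subgroup.subset_closure ⟨_, rfl⟩) (W.inv_mem (Subgroup.subset_closure ⟨_, rfl⟩))
    | one => simp
    | mul a c _ _ ha hc =>
      rw [show h * (a * c) * h⁻¹ = h * a * h⁻¹ * (h * c * h⁻¹) by group]
      exact mul_mem ha hc
    | inv a _ ha =>
      rw [show h * a⁻¹ * h⁻¹ = (h * a * h⁻¹)⁻¹ by group]
      exact inv_mem ha
  refine Subgroup.mem_centralizer_iff.2 fun n hn => ?_
  have h1 : n * z * n⁻¹ * z⁻¹ ∈ W ⊓ N := ⟨Subgroup.subset_closure ⟨n, rfl⟩, by
    rw [show n * z * n⁻¹ * z⁻¹ = n * (z * n⁻¹ * z⁻¹) by group]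
    exact N.mul_mem hn ((inferInstance : N.Normal).conj_mem _ (N.inv_mem hn) z)⟩
  rcases hmin (W ⊓ N) inferInstance inf_le_right with h | h
  · rw [h, Subgroup.mem_bot, mul_inv_eq_one, mul_inv_eq_iff_eq_mul] at h1
    exact h1
  · exact absurd (P.2.to_le ((inf_eq_right.1 h).trans hWP)) hNp

/-- A minimal normal subgroup which is not solvable has no solvable subgroup normalised by it. -/
theorem eq_bot_of_solvable_normalised (N : Subgroup G) [N.Normal]
    (hmin : ∀ L : Subgroup G, L.Normal → L ≤ N → L = ⊥ ∨ L = N) (hNs : ¬ Group.IsSolvable N)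
    (X : Subgroup G) (hXN : X ≤ N) (hXs : Group.IsSolvable X) (hX : N ≤ Subgroup.normalizer (X : Set G)) :
    X = ⊥ := by
  set S : Set (Subgroup G) := {X | X ≤ N ∧ Group.IsSolvable X ∧ N ≤ Subgroup.normalizer (X : Set G)} with hS
  obtain ⟨U, hU⟩ := (Set.toFinite S).exists_maximal ⟨X, hXN, hXs, hX⟩
  obtain ⟨hUN, hUs, hUn⟩ := hU.prop
  have hle : ∀ Y ∈ S, Y ≤ U := by
    rintro Y ⟨hY1, hY2, hY3⟩
    refine le_sup_right.trans (hU.le_of_ge ⟨sup_le hUN hY1, CfsgLib.Signalizer.isSolvable_sup hUs hY2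
      (hY1.trans hUn), fun n hn => ?_⟩ le_sup_left)
    rw [Subgroup.mem_normalizer_iff_map_conj_eq, Subgroup.map_sup,
      Subgroup.mem_normalizer_iff_map_conj_eq.1 (hUn hn), Subgroup.mem_normalizer_iff_map_conj_eq.1 (hY3 hn)]
  haveI : U.Normal := by
    refine ⟨fun v hv g => ?_⟩
    refine hle (U.map (MulAut.conj g).toMonoidHom) ⟨?_, ?_, fun n hn => ?_⟩ ⟨v, hv, rfl⟩
    · rintro _ ⟨w, hw, rfl⟩
      exact (inferInstance : N.Normal).conj_mem w (hUN hw) g
    · exact Group.isSolvable_of_surjective (f := (U.equivMapOfInjective _ (MulAut.conj g).injective).toMonoidHom)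
        (MulEquiv.surjective _)
    · have h1 := hUn ((inferInstance : N.Normal).conj_mem n hn g⁻¹)
      rw [Subgroup.mem_normalizer_iff] at h1 ⊢
      intro w
      simp only [Subgroup.mem_map_equiv, MulAut.conj_symm_apply]
      rw [h1, show g⁻¹ * n * g⁻¹⁻¹ * (g⁻¹ * w * g) * (g⁻¹ * n * g⁻¹⁻¹)⁻¹ = g⁻¹ * (n * w * n⁻¹) * g by group]
  rcases hmin U inferInstance hUN with h | h
  · exact eq_bot_iff.2 ((hle X ⟨hXN, hXs, hX⟩).trans h.le)
  · exact absurd (h ▸ hUs) hNs

omit [Finite G] in
/-- Indices in a normal product. -/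
theorem relIndex_of_normal_sup [Finite G] (N C S : Subgroup G) [N.Normal] (hNS : N ≤ S)
    (hS : S ≤ N ⊔ (C ⊓ S)) : C.relIndex S = C.relIndex N := by
  have e1 : N.relIndex (C ⊓ S) = N.relIndex S := by
    rw [← Subgroup.relIndex_sup_right (H := C ⊓ S) (K := N), sup_comm,
      le_antisymm (sup_le hNS inf_le_right) hS]
  have e2 : (C ⊓ N).relIndex S = C.relIndex N * N.relIndex S := by
    rw [← Subgroup.inf_relIndex_right C N, Subgroup.relIndex_mul_relIndex _ _ _ inf_le_right hNS]
  have e3 : (C ⊓ N).relIndex S = N.relIndex (C ⊓ S) * C.relIndex S := by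
    rw [← Subgroup.inf_relIndex_right C S,
      ← Subgroup.relIndex_mul_relIndex (C ⊓ N) (C ⊓ S) S (inf_le_inf_left C hNS) inf_le_right]
    congr 1
    rw [← Subgroup.inf_relIndex_right N (C ⊓ S)]
    congr 1
    rw [inf_comm N, inf_assoc, inf_eq_right.2 hNS]
  rw [e1, e2, mul_comm] at e3
  exact (Nat.eq_of_mul_eq_mul_left (Nat.pos_of_ne_zero Subgroup.index_ne_zero_of_finite) e3).symm

/-- Kazarin's theorem. -/
theorem isSolvable_normalClosure : ∀ (n : ℕ) (G : Type u) [Group G] [Finite G], Nat.card G = n →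
    ∀ (x : G) (p k : ℕ), p.Prime → (Subgroup.centralizer ({x} : Set G)).index = p ^ k →
      Group.IsSolvable ↥(Subgroup.normalClosure ({x} : Set G)) := by
  intro n
  induction n using Nat.strong_induction_on with
  | _ n ih =>
  intro G _ _ hcard x p k hp hidx
  classical
  haveI := Fact.mk hp
  rcases subsingleton_or_nontrivial G with hsub | hnt
  · exact Group.isSolvable_of_comm fun a c => Subtype.ext (Subsingleton.elim _ _)
  obtain ⟨N, hN⟩ := CfsgLib.Hall.exists_isMinNormal (G := G)
  haveI := hN.1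
  set K := Subgroup.normalClosure ({x} : Set G) with hK
  have hxK : x ∈ K := Subgroup.subset_normalClosure rfl
  set π := QuotientGroup.mk' N with hπ
  have hπs : Function.Surjective π := QuotientGroup.mk'_surjective _
  have hlt : Nat.card (G ⧸ N) < n := by
    rw [← hcard, ← N.index_eq_card, ← N.index_mul_card]
    exact lt_mul_of_one_lt_right (Nat.pos_of_ne_zero Subgroup.index_ne_zero_of_finite)
      ((Subgroup.one_lt_card_iff_ne_bot N).2 hN.2.1)
  have hKq : Group.IsSolvable ↥(K.map π) := by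
    rw [hK, Subgroup.map_normalClosure _ _ hπs, Set.image_singleton]
    have hd : (Subgroup.centralizer ({π x} : Set (G ⧸ N))).index ∣ p ^ k := by
      rw [← hidx]
      refine (Subgroup.index_dvd_of_le (H := (Subgroup.centralizer ({x} : Set G)).map π) ?_).trans
        (Subgroup.index_map_dvd _ hπs)
      rintro _ ⟨c, hc, rfl⟩
      refine Subgroup.mem_centralizer_singleton_iff.2 ?_
      rw [← map_mul, ← map_mul, Subgroup.mem_centralizer_singleton_iff.1 hc]
    obtain ⟨j, -, hj⟩ := (Nat.dvd_prime_pow hp).1 hd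
    exact ih _ hlt (G ⧸ N) rfl (π x) p j hp hj
  have hext : ∀ T : Subgroup G, Group.IsSolvable T → K ⊓ N ≤ T → Group.IsSolvable K := by
    intro T hT hle
    haveI : Group.IsSolvable ↥(K ⊓ N) := CfsgLib.Signalizer.isSolvable_of_le hle hT
    refine Group.isSolvable_of_ker_le_range (Subgroup.inclusion (inf_le_left : K ⊓ N ≤ K)) (π.subgroupMap K) ?_
    intro c hc
    refine ⟨⟨(c : G), c.2, ?_⟩, rfl⟩
    exact (QuotientGroup.eq_one_iff _).1 (congrArg Subtype.val hc)
  by_cases hNs : Group.IsSolvable N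
  · exact hext N hNs inf_le_right
  haveI hKn : K.Normal := Subgroup.normalClosure_normal
  rcases hN.2.2 (K ⊓ N) inferInstance inf_le_right with h | h
  · exact hext ⊥ inferInstance h.le
  exfalso
  have hNK : N ≤ K := inf_eq_right.1 h
  have hxC : x ∉ Subgroup.centralizer (N : Set G) := by
    intro hc
    refine hNs (Group.isSolvable_of_comm fun a c => Subtype.ext ?_)
    exact Subgroup.mem_centralizer_iff.1
      ((hNK.trans (Subgroup.normalClosure_le_normal (Set.singleton_subset_iff.2 hc))) c.2) a a.2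
  -- a part of prime power order
  obtain ⟨q, e, j, hq, hje, hzN⟩ : ∃ q e j : ℕ, q.Prime ∧ (x ^ j) ^ q ^ e = 1 ∧
      x ^ j ∉ Subgroup.centralizer (N : Set G) := by
    by_contra hcon
    push Not at hcon
    refine hxC ?_
    set L : Subgroup G := Subgroup.centralizer (N : Set G) ⊓ Subgroup.zpowers x with hL
    have hdvd : orderOf x ∣ Nat.card L := by
      rw [Nat.dvd_iff_prime_pow_dvd_dvd]
      intro r s hr hrs
      have ho : orderOf (x ^ (orderOf x / r ^ s)) = r ^ s := orderOf_pow_orderOf_div (orderOf_pos x).ne' hrs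
      rw [← ho]
      exact Subgroup.orderOf_dvd_natCard L ⟨hcon r s _ hr (orderOf_dvd_iff_pow_eq_one.1 ho.dvd),
        Subgroup.npow_mem_zpowers x _⟩
    have hLe : L = Subgroup.zpowers x := Subgroup.eq_of_le_of_card_ge inf_le_right (by
      rw [Nat.card_zpowers]; exact Nat.le_of_dvd Nat.card_pos hdvd)
    exact (hLe.ge (Subgroup.mem_zpowers x)).1
  set z := x ^ j with hzdef
  obtain ⟨b, -, hb⟩ : ∃ b ≤ k, (Subgroup.centralizer ({z} : Set G)).index = p ^ b := by
    refine (Nat.dvd_prime_pow hp).1 (hidx ▸ Subgroup.index_dvd_of_le fun c hc => ?_)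
    rw [Subgroup.mem_centralizer_singleton_iff] at hc ⊢
    exact ((show Commute c x from hc).pow_right j).eq
  haveI := Fact.mk hq
  set C := Subgroup.centralizer ({z} : Set G) with hC
  have hzC : z ∈ C := Subgroup.mem_centralizer_singleton_iff.2 rfl
  have hNp : ¬ IsPGroup p N := fun hp' => hNs (by haveI := hp'.isNilpotent; infer_instance)
  -- no Sylow `p`-subgroup is normalised
  have hnon : ∀ P : Sylow p G, z ∉ Subgroup.normalizer ((P : Subgroup G) : Set G) := fun P hP =>
    hzN (commute_of_mem_normalizer N hN.2.2 hNp z hb P hP)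
  have hzpg : IsPGroup q (Subgroup.zpowers z) := by
    obtain ⟨i, -, hi⟩ := (Nat.dvd_prime_pow hq).1 (orderOf_dvd_of_pow_eq_one hje)
    exact IsPGroup.of_card (by rw [Nat.card_zpowers, hi])
  have hpq : p ≠ q := by
    rintro rfl
    obtain ⟨P, hP⟩ := hzpg.exists_le_sylow
    exact hnon P (Subgroup.le_normalizer (hP (Subgroup.mem_zpowers z)))
  set H := N ⊔ Subgroup.zpowers z with hH
  have hNH : N ≤ H := le_sup_left
  have hzH : z ∈ H := Subgroup.mem_sup_right (Subgroup.mem_zpowers z)
  by_cases htop : H = ⊤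
  · haveI := Fintype.ofFinite G
    have hpN : p ∣ Nat.card N := by
      by_contra hd
      refine hzN (Subgroup.mem_centralizer_iff.2 fun m hm => ?_)
      have h1 : C.relIndex ⊤ = C.relIndex N := relIndex_of_normal_sup N C ⊤ le_top (by
        rw [inf_top_eq, ← htop]
        exact sup_le_sup_left ((Subgroup.zpowers_le).2 hzC) N)
      rw [Subgroup.relIndex_top_right, hb] at h1
      have h2 : C.relIndex N = 1 :=
        Nat.eq_one_of_dvd_coprimes ((hp.coprime_iff_not_dvd.2 hd).pow_left b) (h1 ▸ dvd_refl (p ^ b))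
          (Subgroup.index_dvd_card _)
      exact Subgroup.mem_centralizer_singleton_iff.1 (Subgroup.relIndex_eq_one.1 h2 hm)
    by_cases hqN : q ∣ Nat.card N
    · exact core hp hq hpq N hN.2.2 z e b hje htop hb hzN hqN hpN
    -- `⟨z⟩` is a Sylow `q`-subgroup, and some Sylow `p`-subgroup is normalised by a conjugate
    obtain ⟨PN⟩ : Nonempty (Sylow p N) := inferInstance
    set T := Subgroup.normalizer (((PN : Subgroup N).map N.subtype : Subgroup G) : Set G) with hT
    have hfr : N ⊔ T = ⊤ := by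
      rw [sup_comm]; exact Sylow.normalizer_sup_eq_top PN
    have hqdvd : ¬ q ∣ (Subgroup.zpowers z).index := by
      intro hd
      have h1 : (Subgroup.zpowers z).index = (Subgroup.zpowers z).relIndex N := by
        rw [← Subgroup.relIndex_top_right]
        exact relIndex_of_normal_sup N _ ⊤ le_top (by rw [inf_top_eq]; exact htop.ge)
      exact hqN ((h1 ▸ hd).trans (Subgroup.index_dvd_card _))
    set Z : Sylow q G := hzpg.toSylow hqdvd with hZ
    have hTi : ¬ q ∣ T.index := by
      have h1 : T.index = T.relIndex N := by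
        rw [← Subgroup.relIndex_top_right]
        exact relIndex_of_normal_sup N _ ⊤ le_top (by rw [inf_top_eq]; exact hfr.ge)
      exact fun hd => hqN ((h1 ▸ hd).trans (Subgroup.index_dvd_card _))
    obtain ⟨R⟩ : Nonempty (Sylow q T) := inferInstance
    have hRi : ¬ q ∣ ((R : Subgroup T).map T.subtype).index := by
      rw [Subgroup.index_map_subtype]
      exact fun hd => (hq.dvd_mul.1 hd).elim R.not_dvd_index hTi
    set R' : Sylow q G := (R.2.map T.subtype).toSylow hRi with hR'
    obtain ⟨g, hg⟩ := MulAction.exists_smul_eq G Z R'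
    have hgz : g * z * g⁻¹ ∈ T := by
      have h1 : MulAut.conj g • Subgroup.zpowers z = (R : Subgroup T).map T.subtype :=
        congrArg (fun S : Sylow q G => (S : Subgroup G)) hg
      exact Subgroup.map_subtype_le _ (h1.le ⟨z, Subgroup.mem_zpowers z, rfl⟩)
    -- extend the `p`-part
    obtain ⟨P, hP⟩ := (PN.2.map N.subtype).exists_le_sylow
    have hPN : (P : Subgroup G) ≤ N := by
      intro s hs
      obtain ⟨c, hc, m, ⟨i, rfl⟩, hsm⟩ := Subgroup.mem_sup_of_normal_left.1 (htop.ge (Subgroup.mem_top s))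
      obtain ⟨a, ha⟩ := P.2 ⟨s, hs⟩
      have ha' : s ^ p ^ a = 1 := congrArg Subtype.val ha
      rw [← QuotientGroup.eq_one_iff]
      refine orderOf_eq_one_iff.1 (Nat.eq_one_of_dvd_coprimes (((Nat.coprime_primes hp hq).2 hpq).pow a e)
        (orderOf_dvd_of_pow_eq_one (by rw [← QuotientGroup.mk_pow, ha', QuotientGroup.mk_one]))
        (orderOf_dvd_of_pow_eq_one ?_))
      rw [← hsm, QuotientGroup.mk_mul, (QuotientGroup.eq_one_iff c).2 hc, one_mul, ← QuotientGroup.mk_pow]
      refine (QuotientGroup.eq_one_iff _).2 ?_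
      show (z ^ i) ^ q ^ e ∈ N
      rw [← zpow_natCast, ← zpow_mul, mul_comm, zpow_mul, zpow_natCast, hje, one_zpow]
      exact one_mem N
    have hPeq : (PN : Subgroup N).map N.subtype = (P : Subgroup G) := by
      have h1 : (P : Subgroup G).subgroupOf N = (PN : Subgroup N) :=
        PN.3 (P.2.comap_of_injective N.subtype N.subtype_injective) (Subgroup.map_le_iff_le_comap.1 hP)
      rw [← h1, Subgroup.map_subgroupOf_eq_of_le hPN]
    rw [hT, hPeq] at hgz
    refine hnon (g⁻¹ • P) ?_
    rw [Sylow.coe_subgroup_smul, Subgroup.mem_normalizer_iff_map_conj_eq]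
    rw [Subgroup.mem_normalizer_iff_map_conj_eq] at hgz
    show MulAut.conj z • (MulAut.conj g⁻¹ • (P : Subgroup G)) = MulAut.conj g⁻¹ • (P : Subgroup G)
    calc MulAut.conj z • (MulAut.conj g⁻¹ • (P : Subgroup G))
        = MulAut.conj g⁻¹ • (MulAut.conj (g * z * g⁻¹) • (P : Subgroup G)) := by
          rw [smul_smul, smul_smul, ← map_mul, ← map_mul]; congr 2; group
      _ = MulAut.conj g⁻¹ • (P : Subgroup G) := congrArg (MulAut.conj g⁻¹ • ·) hgz
  · -- a proper subgroup
    have hlt2 : Nat.card H < n := hcard ▸ lt_of_le_of_ne H.card_le_card_group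
      (fun e => htop (Subgroup.eq_top_of_card_eq H e))
    have hd : (Subgroup.centralizer ({(⟨z, hzH⟩ : H)} : Set H)).index ∣ p ^ b := by
      have h1 : Subgroup.centralizer ({(⟨z, hzH⟩ : H)} : Set H) = C.subgroupOf H := by
        ext c
        rw [Subgroup.mem_subgroupOf, hC, Subgroup.mem_centralizer_singleton_iff,
          Subgroup.mem_centralizer_singleton_iff]
        exact ⟨fun e => congrArg Subtype.val e, fun e => Subtype.ext e⟩
      rw [h1, ← Subgroup.relIndex, ← hb]
      have e1 : C.relIndex H = C.relIndex N := relIndex_of_normal_sup N C H hNH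
        (sup_le_sup_left (le_inf ((Subgroup.zpowers_le).2 hzC) le_sup_right) N)
      have e2 : C.relIndex (N ⊔ C) = C.relIndex N := relIndex_of_normal_sup N C _ le_sup_left
        (sup_le le_sup_left (le_trans (le_inf le_rfl le_sup_right) le_sup_right))
      rw [e1, ← e2]
      exact Dvd.intro _ (Subgroup.relIndex_mul_index (le_sup_right : C ≤ N ⊔ C))
    obtain ⟨i, -, hi⟩ := (Nat.dvd_prime_pow hp).1 hd
    have hRs := ih _ hlt2 H rfl ⟨z, hzH⟩ p i hp hi
    set R := Subgroup.normalClosure ({(⟨z, hzH⟩ : H)} : Set H) with hR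
    haveI : R.Normal := Subgroup.normalClosure_normal
    have hXs : Group.IsSolvable ↥(R.map H.subtype ⊓ N) := CfsgLib.Signalizer.isSolvable_of_le inf_le_left
      (Group.isSolvable_of_surjective (f := (R.equivMapOfInjective _ H.subtype_injective).toMonoidHom)
        (MulEquiv.surjective _))
    have hXn : N ≤ Subgroup.normalizer ((R.map H.subtype ⊓ N : Subgroup G) : Set G) := by
      refine Subgroup.le_normalizer_iff.2 fun m hm w hw => ?_
      obtain ⟨⟨r, hr, hrw⟩, hwN⟩ := hw
      refine ⟨⟨⟨m, hNH hm⟩ * r * ⟨m, hNH hm⟩⁻¹, (inferInstance : R.Normal).conj_mem r hr _, ?_⟩,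
        (inferInstance : N.Normal).conj_mem w hwN m⟩
      rw [← hrw]; rfl
    have hbot := eq_bot_of_solvable_normalised N hN.2.2 hNs _ inf_le_right hXs hXn
    refine hzN (Subgroup.mem_centralizer_iff.2 fun m hm => ?_)
    have h1 : m * z * m⁻¹ * z⁻¹ ∈ R.map H.subtype ⊓ N := by
      refine ⟨⟨⟨m, hNH hm⟩ * ⟨z, hzH⟩ * ⟨m, hNH hm⟩⁻¹ * ⟨z, hzH⟩⁻¹, ?_, rfl⟩, ?_⟩
      · exact R.mul_mem ((inferInstance : R.Normal).conj_mem _ (Subgroup.subset_normalClosure rfl) _)
          (R.inv_mem (Subgroup.subset_normalClosure rfl))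
      · rw [show m * z * m⁻¹ * z⁻¹ = m * (z * m⁻¹ * z⁻¹) by group]
        exact N.mul_mem hm ((inferInstance : N.Normal).conj_mem _ (N.inv_mem hm) z)
    rw [hbot, Subgroup.mem_bot, mul_inv_eq_one, mul_inv_eq_iff_eq_mul] at h1
    exact h1

theorem isSolvable_normalClosure_of_index {p k : ℕ} (hp : p.Prime) (x : G)
    (hx : (Subgroup.centralizer ({x} : Set G)).index = p ^ k) :
    Group.IsSolvable ↥(Subgroup.normalClosure ({x} : Set G)) :=
  isSolvable_normalClosure _ G rfl x p k hp hx

/-- The conjugates of an element with prime power class size commute modulo the `p`-core. -/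
theorem commutator_mem_pCore {p a : ℕ} [hp : Fact p.Prime] (x : G)
    (hx : (Subgroup.centralizer ({x} : Set G)).index = p ^ a) (g h : G) :
    (g * x * g⁻¹) * (h * x * h⁻¹) * (g * x * g⁻¹)⁻¹ * (h * x * h⁻¹)⁻¹ ∈ Cfsg.pCore p G := by
  classical
  -- the largest normal `p`-subgroup
  obtain ⟨O, hO⟩ := (Set.toFinite {N : Subgroup G | N.Normal ∧ IsPGroup p N}).exists_maximal
    ⟨⊥, inferInstance, IsPGroup.of_bot⟩
  obtain ⟨hOn, hOp⟩ := hO.prop
  haveI := hOn
  refine (le_sSup hO.prop : O ≤ Cfsg.pCore p G) ?_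
  rw [← QuotientGroup.eq_one_iff]
  set π := QuotientGroup.mk' O with hπ
  have hπs : Function.Surjective π := QuotientGroup.mk'_surjective _
  -- the quotient has no normal `p`-subgroup
  have hnone : ∀ W : Subgroup (G ⧸ O), W.Normal → IsPGroup p W → W = ⊥ := by
    intro W hW hWp
    have h1 : IsPGroup p (W.comap π) := by
      rintro ⟨w, hw⟩
      obtain ⟨i, hi⟩ := hWp ⟨π w, hw⟩
      have h2 : w ^ p ^ i ∈ O := by
        rw [← QuotientGroup.eq_one_iff, QuotientGroup.mk_pow]
        exact congrArg Subtype.val hi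
      obtain ⟨j, hj⟩ := hOp ⟨_, h2⟩
      exact ⟨i + j, Subtype.ext (by
        rw [SubgroupClass.coe_pow, OneMemClass.coe_one, pow_add, pow_mul]
        exact congrArg Subtype.val hj)⟩
    have h3 : W.comap π ≤ O := hO.le_of_ge ⟨hW.comap π, h1⟩ fun o ho => by
      rw [Subgroup.mem_comap, show π o = 1 from (QuotientGroup.eq_one_iff o).2 ho]; exact one_mem W
    rw [eq_bot_iff]
    intro w hw
    obtain ⟨w, rfl⟩ := hπs w
    exact (QuotientGroup.eq_one_iff w).2 (h3 hw)
  set y := π x with hy
  obtain ⟨c, -, hc⟩ : ∃ c ≤ a, (Subgroup.centralizer ({y} : Set (G ⧸ O))).index = p ^ c := by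
    refine (Nat.dvd_prime_pow hp.out).1 (hx ▸ ?_)
    refine (Subgroup.index_dvd_of_le (H := (Subgroup.centralizer ({x} : Set G)).map π) ?_).trans
      (Subgroup.index_map_dvd _ hπs)
    rintro _ ⟨d, hd, rfl⟩
    refine Subgroup.mem_centralizer_singleton_iff.2 ?_
    rw [hy, ← map_mul, ← map_mul, Subgroup.mem_centralizer_singleton_iff.1 hd]
  set C := Subgroup.centralizer ({y} : Set (G ⧸ O)) with hC
  set L := Subgroup.normalClosure ({y} : Set (G ⧸ O)) with hL
  haveI : Group.IsSolvable L := isSolvable_normalClosure_of_index hp.out y hc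
  haveI : L.Normal := Subgroup.normalClosure_normal
  set F := Cfsg.fittingSubgroup L with hF
  haveI : F.Normal := CfsgLib.Components.fittingSubgroup_normal
  haveI hFnil : Group.IsNilpotent F := CfsgLib.Components.fittingSubgroup_isNilpotent
  haveI hFc : F.Characteristic := CfsgLib.Components.fittingSubgroup_characteristic
  have hyL : y ∈ L := Subgroup.subset_normalClosure rfl
  -- the element centralises the Sylow subgroups of the Fitting subgroup
  have hcent : ∀ f ∈ F, Commute (f : G ⧸ O) y := by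
    suffices hh : F.map L.subtype ≤ C from fun f hf =>
      Subgroup.mem_centralizer_singleton_iff.1 (hh ⟨f, hf, rfl⟩)
    rintro _ ⟨f, hf, rfl⟩
    set D : Subgroup F := C.comap (L.subtype.comp F.subtype) with hD
    suffices hDtop : D = ⊤ from hDtop.ge (Subgroup.mem_top (⟨f, hf⟩ : F))
    refine Subgroup.eq_top_of_le_card D (Nat.le_of_dvd Nat.card_pos ?_)
    rw [Nat.dvd_iff_prime_pow_dvd_dvd]
    intro r s hr hrs
    haveI := Fact.mk hr
    obtain ⟨S⟩ : Nonempty (Sylow r F) := inferInstance
    haveI hSn : (S : Subgroup F).Normal := Sylow.normal_of_normalizerCondition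
      Group.normalizerCondition_of_isNilpotent S
    haveI hSc : (S : Subgroup F).Characteristic := S.characteristic_of_normal hSn
    haveI : ((S : Subgroup F).map F.subtype).Normal := inferInstance
    haveI hSL : ((S : Subgroup F).map F.subtype).Characteristic := by
      rw [Subgroup.characteristic_iff_map_eq]
      intro φ
      have hφF : F.map φ.toMonoidHom = F := Subgroup.characteristic_iff_map_eq.1 hFc φ
      let ψ : F ≃* F := (φ.subgroupMap F).trans (MulEquiv.subgroupCongr hφF)
      have h1 := Subgroup.characteristic_iff_map_eq.1 hSc ψ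
      conv_rhs => rw [← h1]
      rw [Subgroup.map_map, Subgroup.map_map]
      rfl
    have hW : (((S : Subgroup F).map F.subtype).map L.subtype).Normal :=
      ConjAct.normal_of_characteristic_of_normal
    set W := ((S : Subgroup F).map F.subtype).map L.subtype with hWdef
    have hWr : IsPGroup r W := (S.2.map F.subtype).map L.subtype
    have hWC : W ≤ C := by
      by_cases hrp : r = p
      · subst hrp
        rw [hnone W hW hWr]; exact bot_le
      · obtain ⟨T⟩ : Nonempty (Sylow r C) := inferInstance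
        have hTi : ¬ r ∣ ((T : Subgroup C).map C.subtype).index := by
          rw [Subgroup.index_map_subtype, hc]
          intro hd
          rcases hr.dvd_mul.1 hd with h1 | h1
          · exact T.not_dvd_index h1
          · exact hrp ((Nat.prime_dvd_prime_iff_eq hr hp.out).1 (hr.dvd_of_dvd_pow h1))
        haveI := hW
        have hsup : W ⊔ (T : Subgroup C).map C.subtype = (T : Subgroup C).map C.subtype := by
          refine ((T.2.map C.subtype).toSylow hTi).3 ?_ ?_
          · exact hWr.to_sup_of_normal_left (T.2.map C.subtype)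
          · exact le_sup_right
        exact (sup_eq_right.1 hsup).trans (Subgroup.map_subtype_le _)
    have hSD : (S : Subgroup F) ≤ D := fun m hm => hWC ⟨_, ⟨m, hm, rfl⟩, rfl⟩
    refine dvd_trans ?_ (Subgroup.card_dvd_of_le hSD)
    rw [S.card_eq_multiplicity]
    exact Nat.pow_dvd_pow r ((hr.pow_dvd_iff_le_factorization Nat.card_pos.ne').1 hrs)
  have hyF : (⟨y, hyL⟩ : L) ∈ F := CfsgLib.Hall.centralizer_fitting_le
    (Subgroup.mem_centralizer_iff.2 fun f hf => Subtype.ext (hcent f hf).eq)
  -- so all the conjugates of `y` lie in the centre of a normal subgroup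
  have hFn : (F.map L.subtype).Normal := ConjAct.normal_of_characteristic_of_normal
  have hall : ∀ u : G ⧸ O, ∀ v : G ⧸ O, Commute (u * y * u⁻¹) (v * y * v⁻¹) := by
    intro u v
    obtain ⟨f, hf, hfe⟩ := hFn.conj_mem _ ⟨_, hyF, rfl⟩ (v⁻¹ * u)
    have h2 : Commute (v⁻¹ * u * y * (v⁻¹ * u)⁻¹) y := by
      have h3 := hcent f hf
      rwa [show (f : G ⧸ O) = v⁻¹ * u * y * (v⁻¹ * u)⁻¹ from hfe] at h3
    have := h2.map (MulAut.conj v).toMonoidHom
    simpa [mul_assoc] using this
  show π _ = 1
  rw [map_mul, map_mul, map_mul, map_inv, map_inv, map_mul, map_mul, map_mul, map_mul, map_inv, map_inv]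
  exact commutatorElement_eq_one_iff_mul_comm.2 (hall (π g) (π h)).eq

end CfsgLib.Kazarin
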