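import Cfsg.Agent.CharBasics.Burnside
import Cfsg.Agent.CharBasics.ModP
import Cfsg.Agent.Blocks.Idempotent
import Cfsg.Agent.Blocks.Glauberman
import Cfsg.Agent.Clifford.ExtCriteria

/-!
# An element with prime power class size normalising a minimal normal subgroup

The principal block for the prime of the element: every character outside the quotient has degree divisible by
the prime of the class size, so weak block orthogonality between two elements of the normal subgroup fails.
-/

set_option autoImplicit false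

namespace CfsgLib.Kazarin

open Cfsg CfsgLib.Blocks CfsgLib.CharBasics
open scoped ComplexConjugate commutatorElement

variable {G : Type*} [Group G] [Fintype G]

section Inflate

variable {N : Subgroup G} [N.Normal] (hab : ∀ a b : G, a * b * a⁻¹ * b⁻¹ ∈ N)
include hab

omit [N.Normal] in
theorem apply_mul_of_le_ker {χ : G → ℂ} (h : IsIrrCharacter G χ) (hN : N ≤ charKer χ (isCharacter_of_irr h))
    (g y : G) : χ 1 * χ (g * y) = χ g * χ y := by
  have hs := sum_conj_apply_mul h g y
  have hc := isCharacter_of_irr h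
  have hx : ∀ x : G, χ (x * g * x⁻¹ * y) = χ (g * y) := fun x => by
    have := apply_mul_of_apply_eq hc (g := x * g * x⁻¹ * g⁻¹) (hN (hab x g)) (g * y)
    rwa [show x * g * x⁻¹ * g⁻¹ * (g * y) = x * g * x⁻¹ * y by group] at this
  rw [Finset.sum_congr rfl (fun x _ => hx x), Finset.sum_const, Finset.card_univ,
    ← Nat.card_eq_fintype_card, nsmul_eq_mul] at hs
  have hG : (Nat.card G : ℂ) ≠ 0 := Nat.cast_ne_zero.mpr Nat.card_pos.ne'
  exact mul_left_cancel₀ hG (by linear_combination hs)

omit [N.Normal] in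
theorem apply_one_eq_one {χ : G → ℂ} (h : IsIrrCharacter G χ) (hN : N ≤ charKer χ (isCharacter_of_irr h)) :
    χ 1 = 1 := by
  have hc := isCharacter_of_irr h
  have hn := classInner_self h
  rw [classInner] at hn
  have hterm : ∀ g : G, χ g * conj (χ g) = χ 1 * χ 1 := fun g => by
    rw [← apply_inv hc, ← apply_mul_of_le_ker hab h hN g g⁻¹, mul_inv_cancel]
  rw [Finset.sum_congr rfl (fun g _ => hterm g), Finset.sum_const, Finset.card_univ,
    ← Nat.card_eq_fintype_card, nsmul_eq_mul, ← mul_assoc,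
    inv_mul_cancel₀ (Nat.cast_ne_zero.mpr Nat.card_pos.ne'), one_mul, apply_one hc, ← Nat.cast_mul,
    Nat.cast_eq_one] at hn
  rw [apply_one hc, Nat.eq_one_of_mul_eq_one_right hn, Nat.cast_one]

/-- A character trivial on `N`, as a homomorphism. -/
noncomputable def toHom {χ : G → ℂ} (h : IsIrrCharacter G χ) (hN : N ≤ charKer χ (isCharacter_of_irr h)) :
    G ⧸ N →* ℂˣ :=
  QuotientGroup.lift N
    (MonoidHom.toHomUnits
      { toFun := χ
        map_one' := apply_one_eq_one hab h hN
        map_mul' := fun a b => by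
          have := apply_mul_of_le_ker hab h hN a b
          rwa [apply_one_eq_one hab h hN, one_mul] at this })
    (fun n hn => Units.ext (((mem_charKer _ n).1 (hN hn)).trans (apply_one_eq_one hab h hN)))

theorem toHom_apply {χ : G → ℂ} (h : IsIrrCharacter G χ) (hN : N ≤ charKer χ (isCharacter_of_irr h)) (g : G) :
    ((toHom hab h hN g : ℂˣ) : ℂ) = χ g := rfl

/-- The number of irreducible characters trivial on `N` is its index. -/
theorem card_le_ker :
    Nat.card {χ : IrrCharacter G // N ≤ charKer (χ : G → ℂ) (isCharacter_of_irr χ.2)} = N.index := by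
  have hA : ∀ a b : G ⧸ N, a * b = b * a := by
    intro a b
    obtain ⟨a, rfl⟩ := QuotientGroup.mk_surjective a
    obtain ⟨b, rfl⟩ := QuotientGroup.mk_surjective b
    exact commutatorElement_eq_one_iff_mul_comm.1 ((QuotientGroup.eq_one_iff _).2 (hab a b))
  letI : CommGroup (G ⧸ N) := { (inferInstance : Group (G ⧸ N)) with mul_comm := hA }
  rw [N.index_eq_card, ← CommGroup.card_monoidHom_of_hasEnoughRootsOfUnity (G ⧸ N) ℂ]
  refine Nat.card_congr
    { toFun := fun χ => toHom hab χ.1.2 χ.2
      invFun := fun ψ => ⟨⟨_, CfsgLib.Clifford.isIrrCharacter_of_hom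
        ((Units.coeHom ℂ).comp (ψ.comp (QuotientGroup.mk' N)))⟩, fun n hn => ?_⟩
      left_inv := fun χ => Subtype.ext (Subtype.ext (funext fun g => rfl))
      right_inv := fun ψ => MonoidHom.ext fun e => by
        obtain ⟨g, rfl⟩ := QuotientGroup.mk_surjective e
        exact Units.ext rfl }
  show ((ψ (n : G ⧸ N) : ℂˣ) : ℂ) = ((ψ ((1 : G) : G ⧸ N) : ℂˣ) : ℂ)
  rw [(QuotientGroup.eq_one_iff n).2 hn, QuotientGroup.mk_one]

end Inflate

variable {p q : ℕ}

/-- The heart of Kazarin's theorem. -/
theorem core (hp : p.Prime) (hq : q.Prime) (hpq : p ≠ q) (N : Subgroup G) [hNn : N.Normal]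
    (hmin : ∀ L : Subgroup G, L.Normal → L ≤ N → L = ⊥ ∨ L = N) (z : G) (e k : ℕ)
    (hz : z ^ q ^ e = 1) (htop : N ⊔ Subgroup.zpowers z = ⊤)
    (hidx : (Subgroup.centralizer ({z} : Set G)).index = p ^ k) (hzN : z ∉ Subgroup.centralizer (N : Set G))
    (hqN : q ∣ Nat.card N) (hpN : p ∣ Nat.card N) : False := by
  classical
  haveI := Fact.mk hp
  haveI := Fact.mk hq
  haveI : Fintype (IrrCharacter G) := @Fintype.ofFinite _ finite_irrCharacter
  obtain ⟨M, hM⟩ := exists_modular hq
  obtain ⟨M', hM'⟩ := exists_modular hp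
  -- the quotient is a cyclic `q`-group
  have hgen : ∀ g : G, ∃ i : ℤ, (g : G ⧸ N) = (z : G ⧸ N) ^ i := by
    intro g
    obtain ⟨n, hn, _, ⟨i, rfl⟩, rfl⟩ := Subgroup.mem_sup_of_normal_left.1 (htop.ge (Subgroup.mem_top g))
    exact ⟨i, by rw [QuotientGroup.mk_mul, (QuotientGroup.eq_one_iff n).2 hn, one_mul]; rfl⟩
  have hab : ∀ a b : G, a * b * a⁻¹ * b⁻¹ ∈ N := by
    intro a b
    obtain ⟨i, hi⟩ := hgen a
    obtain ⟨j, hj⟩ := hgen b
    rw [← QuotientGroup.eq_one_iff, QuotientGroup.mk_mul, QuotientGroup.mk_mul, QuotientGroup.mk_mul,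
      QuotientGroup.mk_inv, QuotientGroup.mk_inv, hi, hj]
    group
  have hpow : ∀ g : G, g ^ q ^ e ∈ N := by
    intro g
    obtain ⟨i, hi⟩ := hgen g
    rw [← QuotientGroup.eq_one_iff, QuotientGroup.mk_pow, hi, ← zpow_natCast, ← zpow_mul, mul_comm, zpow_mul,
      zpow_natCast, ← QuotientGroup.mk_pow, hz, QuotientGroup.mk_one, one_zpow]
  obtain ⟨m, hm⟩ : ∃ m, N.index = q ^ m := by
    have hQ : IsPGroup q (G ⧸ N) := fun x => by
      obtain ⟨g, rfl⟩ := QuotientGroup.mk_surjective x
      exact ⟨e, by rw [← QuotientGroup.mk_pow]; exact (QuotientGroup.eq_one_iff _).2 (hpow g)⟩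
    rw [N.index_eq_card]
    exact hQ.exists_card_eq
  set B := principalBlock M G with hB
  have hBb : IsPBlock M B := isPBlock_principal
  have hsub : ∀ (g : G) (χ : IrrCharacter G), χ ∈ B →
      MemLocalIdeal M (centralChar (fun _ : G => (1 : ℂ)) g - centralChar (χ : G → ℂ) g) :=
    fun g χ hχ => hχ g
  -- the characters of the quotient are in the principal block
  have hL : ∀ χ : IrrCharacter G, N ≤ charKer (χ : G → ℂ) (isCharacter_of_irr χ.2) → χ ∈ B := by
    intro χ hχ g
    have h1 := apply_one_eq_one hab χ.2 hχ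
    simp only [centralChar, h1, div_one, mul_one]
    have hroot : ((χ : G → ℂ) g) ^ q ^ e = 1 := by
      rw [← toHom_apply hab χ.2 hχ g, ← Units.val_pow_eq_pow_val, ← map_pow, ← QuotientGroup.mk_pow,
        (QuotientGroup.eq_one_iff _).2 (hpow g), map_one, Units.val_one]
    have := memLocalIdeal_mul_left hM
      (memLocalRing_natCast hM (Subgroup.centralizer ({g} : Set G)).index)
      (memLocalIdeal_neg (root_sub_one_mem hM hroot))
    convert this using 1
    ring
  -- the others have degree divisible by `p`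
  have hdeg : ∀ χ : IrrCharacter G, χ ∈ B → ¬ N ≤ charKer (χ : G → ℂ) (isCharacter_of_irr χ.2) →
      p ∣ charDegree (χ : G → ℂ) := by
    intro χ hχ hker
    by_contra hpd
    have hc := isCharacter_of_irr χ.2
    have hne : (χ : G → ℂ) z ≠ 0 := by
      intro h0
      have h2 := hsub z χ hχ
      simp only [centralChar, h0, mul_zero, zero_div, sub_zero, mul_one, div_one, hidx] at h2
      rw [memLocalIdeal_natCast_iff hM] at h2
      exact hpq ((Nat.prime_dvd_prime_iff_eq hq hp).1 (hq.dvd_of_dvd_pow h2)).symm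
    have hnorm := exists_norm_eq_degree χ z (by rw [hidx]; exact ((hp.coprime_iff_not_dvd).mpr hpd).pow_left k) hne
    haveI := charKer_normal hc
    rcases hmin (charKer _ hc ⊓ N) inferInstance inf_le_right with h | h
    · refine hzN (Subgroup.mem_centralizer_iff.2 fun n hn => ?_)
      have h1 : n * z * n⁻¹ * z⁻¹ ∈ charKer _ hc ⊓ N := by
        refine ⟨commutator_mem_charKer χ.2 hnorm n, ?_⟩
        exact hab n z
      rw [h, Subgroup.mem_bot, mul_inv_eq_one, mul_inv_eq_iff_eq_mul] at h1
      exact h1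
    · exact hker (inf_eq_right.1 h)
  -- weak block orthogonality at two elements of `N`
  obtain ⟨y, hy⟩ := exists_prime_orderOf_dvd_card' (G := N) q hqN
  obtain ⟨u, hu⟩ := exists_prime_orderOf_dvd_card' (G := N) p hpN
  rw [← Subgroup.orderOf_coe] at hy hu
  have horth := weak_block_orth hM hBb (x := (u : G)) (y := (y : G))
    (by rw [hu]; exact fun hd => hpq ((Nat.prime_dvd_prime_iff_eq hq hp).1 hd).symm) (by rw [hy])
  rw [finsum_mem_def, finsum_eq_sum_of_fintype,
    ← Finset.sum_filter_add_sum_filter_not Finset.univ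
      (fun χ : IrrCharacter G => N ≤ charKer (χ : G → ℂ) (isCharacter_of_irr χ.2))] at horth
  have h1 : ∑ χ ∈ Finset.univ.filter (fun χ : IrrCharacter G => N ≤ charKer (χ : G → ℂ) (isCharacter_of_irr χ.2)),
      B.indicator (fun χ => (χ : G → ℂ) (u : G) * conj ((χ : G → ℂ) (y : G))) χ = ((q ^ m : ℕ) : ℂ) := by
    have hone : ∀ χ ∈ Finset.univ.filter (fun χ : IrrCharacter G => N ≤ charKer (χ : G → ℂ) (isCharacter_of_irr χ.2)),
        B.indicator (fun χ => (χ : G → ℂ) (u : G) * conj ((χ : G → ℂ) (y : G))) χ = 1 := by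
      intro χ hχ
      have hχ' := (Finset.mem_filter.1 hχ).2
      rw [Set.indicator_of_mem (hL χ hχ'), (mem_charKer _ _).1 (hχ' u.2), (mem_charKer _ _).1 (hχ' y.2),
        apply_one_eq_one hab χ.2 hχ', map_one, mul_one]
    rw [Finset.sum_congr rfl hone, Finset.sum_const, nsmul_eq_mul, mul_one, ← hm, ← card_le_ker hab,
      Nat.card_eq_fintype_card, Fintype.card_subtype]
  have h2 : MemLocalIdeal M' (∑ χ ∈ Finset.univ.filter
      (fun χ : IrrCharacter G => ¬ N ≤ charKer (χ : G → ℂ) (isCharacter_of_irr χ.2)),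
      B.indicator (fun χ => (χ : G → ℂ) (u : G) * conj ((χ : G → ℂ) (y : G))) χ) := by
    refine memLocalIdeal_sum hM' _ fun χ hχ => ?_
    by_cases hχB : χ ∈ B
    · rw [Set.indicator_of_mem hχB]
      refine memLocalIdeal_mul_right hM' ?_ (memLocalRing_conj hM' χ (y : G))
      have hd := hdeg χ hχB (Finset.mem_filter.1 hχ).2
      have hc := isCharacter_of_irr χ.2
      have h3 := apply_sub_degree_mem hM' hc (g := (u : G)) (k := 1)
        (by rw [pow_one, ← hu]; exact pow_orderOf_eq_one _)
      have h4 : MemLocalIdeal M' ((χ : G → ℂ) 1) := by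
        rw [apply_one hc, memLocalIdeal_natCast_iff hM']; exact hd
      have := memLocalIdeal_add hM' h3 h4
      rwa [sub_add_cancel] at this
    · rw [Set.indicator_of_notMem hχB]; exact memLocalIdeal_zero hM'
  have h5 : MemLocalIdeal M' ((q ^ m : ℕ) : ℂ) := by
    have := memLocalIdeal_neg h2
    rwa [← h1, eq_neg_of_add_eq_zero_left horth]
  rw [memLocalIdeal_natCast_iff hM'] at h5
  exact hpq ((Nat.prime_dvd_prime_iff_eq hp hq).1 (hp.dvd_of_dvd_pow h5))

end CfsgLib.Kazarin
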